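import Groth.Agent.L18.GrMod.AlphaEventually
import Groth.Agent.L18.RelTilde.Ring

/-!
# Bijectivity of `M_n → Γ(Proj A, M(n)~)` and localization at elements of degree zero
-/

set_option autoImplicit false
set_option linter.unusedSectionVars false

noncomputable section

universe u

open CategoryTheory AlgebraicGeometry TopologicalSpace Opposite
open scoped HomogeneousIdeal

namespace Groth.L06.AlphaLoc

open Groth.L18.GrM Groth.L18.RelTilde

variable {A σ : Type u} [CommRing A] [SetLike σ A] [AddSubgroupClass σ A] {𝒜 : ℕ → σ} [GradedRing 𝒜]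
variable {M τ : Type u} [AddCommGroup M] [Module A M] [SetLike τ M] [AddSubgroupClass τ M] {ℳ : ℕ → τ}
  [DirectSum.Decomposition ℳ] [SetLike.GradedSMul 𝒜 ℳ]
variable {B σ' : Type u} [CommRing B] [SetLike σ' B] [AddSubgroupClass σ' B] {ℬ : ℕ → σ'} [GradedRing ℬ]
variable {N τ' : Type u} [AddCommGroup N] [Module B N] [SetLike τ' N] [AddSubgroupClass τ' N] {𝒩 : ℕ → τ'}
  [DirectSum.Decomposition 𝒩] [SetLike.GradedSMul ℬ 𝒩]

/-- Finitely many homogeneous elements of positive degree without common zero on `Proj`. -/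
def IsCover (𝒜 : ℕ → σ) [GradedRing 𝒜] (s : Finset A) : Prop :=
  (∀ g ∈ s, ∃ d, 0 < d ∧ g ∈ 𝒜 d) ∧ ∀ p : ProjectiveSpectrum 𝒜, ∃ g ∈ s, g ∉ p.asHomogeneousIdeal

theorem exists_isCover [IsNoetherianRing A] : ∃ s : Finset A, IsCover 𝒜 s := by
  obtain ⟨s, hs, hsp⟩ := Groth.L18.AlphaEv.exists_gens 𝒜
  refine ⟨s, hs, fun p => ?_⟩
  by_contra h
  push Not at h
  exact p.not_irrelevant_le (show (𝒜₊).toIdeal ≤ _ from hsp ▸ Ideal.span_le.2 h)

/-- A section is zero if its values are. -/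
theorem smul_mk (x : ProjectiveSpectrum 𝒜) (a : A) (m : M) (s : x.asHomogeneousIdeal.toIdeal.primeCompl) :
    a • (LocalizedModule.mk m s : GrMod.LocMod 𝒜 (M := M) x) = LocalizedModule.mk (a • m) s :=
  LocalizedModule.smul'_mk ..

/-- The value of a global section at a point. -/
abbrev ev {n : ℕ} (x : GrMod.sect 𝒜 ℳ (n : ℤ) (op ⊤)) (p : ProjectiveSpectrum 𝒜) : GrMod.LocMod 𝒜 (M := M) p :=
  (x.1 ⟨p, trivial⟩).1

theorem ev_globalOf {n : ℕ} (m : ℳ n) (p : ProjectiveSpectrum 𝒜) :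
    ev (GrMod.globalOf 𝒜 ℳ m) p = LocalizedModule.mk (m : M) 1 := rfl

theorem ev_ext {n : ℕ} {x y : GrMod.sect 𝒜 ℳ (n : ℤ) (op ⊤)} (h : ∀ p, ev x p = ev y p) : x = y :=
  sect_ext fun p => h p.1

variable {ψ : 𝒜 →+*ᵍ ℬ} {v : M →ₛₗ[ψ.toRingHom] N} {r : A} (hψ : ℬ₊ ≤ (𝒜₊).map ψ)

theorem locModMap_smul (y : ProjectiveSpectrum ℬ) (a : A)
    (q : GrMod.LocMod 𝒜 (M := M) (ProjectiveSpectrum.comap ψ hψ y)) :
    GrMod.locModMap ψ hψ v y (a • q) = ψ a • GrMod.locModMap ψ hψ v y q := by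
  induction q using LocalizedModule.induction_on with
  | h m s =>
    rw [smul_mk, GrMod.locModMap_mk, GrMod.locModMap_mk, smul_mk, LinearMap.map_smulₛₗ]
    rfl

variable (v) in
theorem locModMap_mk_one (y : ProjectiveSpectrum ℬ) (m : M) :
    GrMod.locModMap ψ hψ v y (LocalizedModule.mk m 1) = LocalizedModule.mk (v m) 1 := by
  rw [GrMod.locModMap_mk]
  congr 1
  exact Subtype.ext (map_one ψ)

/-- Homogeneous elements of positive degree outside a point give that point. -/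
theorem notMem_comap {y : ProjectiveSpectrum ℬ} {g : A} (hg : ψ g ∉ y.asHomogeneousIdeal) :
    g ∉ (ProjectiveSpectrum.comap ψ hψ y).asHomogeneousIdeal := hg

variable (hv : ∀ (i : ℕ) (m : M), m ∈ ℳ i → v m ∈ 𝒩 i) (h : IsLoc ψ v r) {n : ℕ}

include hv h in
/-- An element zero over `D₊(g)` after localization is killed by a power of `r` times a power of `g`. -/
theorem exists_kill_mk {i : ℕ} {m : M} (hm : m ∈ ℳ i) {d : ℕ} (hd : 0 < d) {g : A} (hg : g ∈ 𝒜 d)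
    (hz : ∀ y : ProjectiveSpectrum ℬ, ψ g ∉ y.asHomogeneousIdeal → ∃ c, c ∉ y.asHomogeneousIdeal ∧ c • v m = 0) :
    ∃ l j : ℕ, g ^ l • r ^ j • m = 0 := by
  obtain ⟨l, hl⟩ := exists_pow_smul_eq_zero (ℳ := 𝒩) hd (hv i m hm) (ψ.map_mem hg) hz
  obtain ⟨j, hj⟩ := h.kerM (g ^ l • m) (by rw [LinearMap.map_smulₛₗ, map_pow]; exact hl)
  exact ⟨l, j, by rwa [smul_comm]⟩

include hv h in
/-- A section which vanishes after localization is killed by a power of `r`. -/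
theorem exists_kill {s : Finset A} (hs : IsCover 𝒜 s) (x : GrMod.sect 𝒜 ℳ (n : ℤ) (op ⊤))
    (hx : ∀ y : ProjectiveSpectrum ℬ, GrMod.locModMap ψ hψ v y (ev x (ProjectiveSpectrum.comap ψ hψ y)) = 0) :
    ∃ J : ℕ, ∀ p, r ^ J • ev x p = 0 := by
  classical
  have key : ∀ g : s, ∃ J : ℕ, ∀ p : ProjectiveSpectrum 𝒜, g.1 ∉ p.asHomogeneousIdeal → r ^ J • ev x p = 0 := by
    intro g
    obtain ⟨d, hd, hg⟩ := hs.1 g g.2
    obtain ⟨K, i, a, ha, -, hval⟩ := exists_eq_mk (U := ProjectiveSpectrum.basicOpen 𝒜 g.1) hd hg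
      (fun x => ProjectiveSpectrum.mem_basicOpen 𝒜 g.1 x)
      (GrMod.res 𝒜 ℳ (n : ℤ) (homOfLE (le_top : ProjectiveSpectrum.basicOpen 𝒜 g.1 ≤ ⊤)).op x)
    have h1 : ∀ (p : ProjectiveSpectrum 𝒜) (hp : g.1 ∉ p.asHomogeneousIdeal),
        ev x p = LocalizedModule.mk a ⟨g.1 ^ K, notMem_pow hp K⟩ := fun p hp =>
      hval ⟨p, (ProjectiveSpectrum.mem_basicOpen 𝒜 _ _).2 hp⟩
    have hz : ∀ y : ProjectiveSpectrum ℬ, ψ g.1 ∉ y.asHomogeneousIdeal →
        ∃ c, c ∉ y.asHomogeneousIdeal ∧ c • v a = 0 := by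
      intro y hy
      have h2 := hx y
      rw [h1 _ (notMem_comap hψ hy), GrMod.locModMap_mk] at h2
      exact (mk_eq_zero_iff (show ψ (g.1 ^ K) ∉ y.asHomogeneousIdeal from notMem_pow (notMem_comap hψ hy) K)).1 h2
    obtain ⟨l, j, hlj⟩ := exists_kill_mk hv h ha hd hg hz
    refine ⟨j, fun p hp => ?_⟩
    rw [h1 p hp, smul_mk]
    exact (mk_eq_zero_iff _).2 ⟨g.1 ^ l, notMem_pow hp l, hlj⟩
  choose J hJ using key
  refine ⟨Finset.univ.sup J, fun p => ?_⟩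
  obtain ⟨g, hg, hgp⟩ := hs.2 p
  rw [← Nat.sub_add_cancel (Finset.le_sup (f := J) (Finset.mem_univ ⟨g, hg⟩)), pow_add, mul_smul,
    hJ ⟨g, hg⟩ p hgp, smul_zero]

include hv h in
/-- A section after localization times a power of `r` comes from a section. -/
theorem exists_extend {s : Finset A} (hs : IsCover 𝒜 s) (x : GrMod.sect ℬ 𝒩 (n : ℤ) (op ⊤)) :
    ∃ (K : ℕ) (t : GrMod.sect 𝒜 ℳ (n : ℤ) (op ⊤)), ∀ y : ProjectiveSpectrum ℬ,
      GrMod.locModMap ψ hψ v y (ev t (ProjectiveSpectrum.comap ψ hψ y)) =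
        ψ r ^ K • ev x y := by
  classical
  have hfrac : ∀ g : s, ∃ (d K i k : ℕ) (a : M), 0 < d ∧ g.1 ∈ 𝒜 d ∧ a ∈ ℳ i ∧ (i : ℤ) = (K * d : ℕ) + (n : ℤ) ∧
      ∀ (y : ProjectiveSpectrum ℬ) (hy : ψ g.1 ∉ y.asHomogeneousIdeal),
        ψ r ^ k • ev x y = LocalizedModule.mk (v a) ⟨ψ g.1 ^ K, notMem_pow hy K⟩ := by
    intro g
    obtain ⟨d, hd, hg⟩ := hs.1 g g.2
    obtain ⟨K, i, b, hb, hdeg, hval⟩ := exists_eq_mk (U := ProjectiveSpectrum.basicOpen ℬ (ψ g.1)) hd (ψ.map_mem hg)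
      (fun x => ProjectiveSpectrum.mem_basicOpen ℬ (ψ g.1) x)
      (GrMod.res ℬ 𝒩 (n : ℤ) (homOfLE (le_top : ProjectiveSpectrum.basicOpen ℬ (ψ g.1) ≤ ⊤)).op x)
    obtain ⟨k, a, ha, hka⟩ := h.exists_homM hv hb
    refine ⟨d, K, i, k, a, hd, hg, ha, hdeg, fun y hy => ?_⟩
    have h1 : ev x y = LocalizedModule.mk b ⟨ψ g.1 ^ K, notMem_pow hy K⟩ :=
      hval ⟨y, (ProjectiveSpectrum.mem_basicOpen ℬ _ _).2 hy⟩
    rw [h1, smul_mk, hka]
  choose d K i k a hd hg ha hdeg hval using hfrac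
  have hr : ∀ j : ℕ, r ^ j ∈ 𝒜 0 := fun j => by simpa using SetLike.pow_mem_graded j h.mem
  let k₀ := Finset.univ.sup k
  let b : s → M := fun g => r ^ (k₀ - k g) • a g
  have hb : ∀ g, b g ∈ ℳ (i g) := fun g => by
    simpa using (SetLike.GradedSMul.smul_mem (hr (k₀ - k g)) (ha g) : r ^ (k₀ - k g) • a g ∈ ℳ (0 + i g))
  have hbval : ∀ (g : s) (y : ProjectiveSpectrum ℬ) (hy : ψ g.1 ∉ y.asHomogeneousIdeal),
      ψ r ^ k₀ • ev x y = LocalizedModule.mk (v (b g)) ⟨ψ g.1 ^ K g, notMem_pow hy (K g)⟩ := by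
    intro g y hy
    have hle : k g ≤ k₀ := Finset.le_sup (Finset.mem_univ g)
    rw [← Nat.sub_add_cancel hle, pow_add, mul_smul, hval g y hy,
      smul_mk, LinearMap.map_smulₛₗ, map_pow]
    rfl
  have hpair : ∀ g g' : s, ∃ j : ℕ, ∀ p : ProjectiveSpectrum 𝒜, g.1 ∉ p.asHomogeneousIdeal →
      g'.1 ∉ p.asHomogeneousIdeal → ∃ c, c ∉ p.asHomogeneousIdeal ∧
        c • r ^ j • (g'.1 ^ K g' • b g - g.1 ^ K g • b g') = 0 := by
    intro g g'
    have h1 : g'.1 ^ K g' • b g - g.1 ^ K g • b g' ∈ ℳ (K g' * d g' + (K g * d g + n)) := by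
      have e1 : i g = K g * d g + n := by have := hdeg g; omega
      have e2 : i g' = K g' * d g' + n := by have := hdeg g'; omega
      refine sub_mem ?_ ?_
      · rw [← e1]
        exact SetLike.GradedSMul.smul_mem (by simpa using SetLike.pow_mem_graded (K g') (hg g')) (hb g)
      · rw [show K g' * d g' + (K g * d g + n) = K g * d g + i g' by omega]
        exact SetLike.GradedSMul.smul_mem (by simpa using SetLike.pow_mem_graded (K g) (hg g)) (hb g')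
    obtain ⟨l, j, hlj⟩ := exists_kill_mk hv h h1 (d := d g + d g') (by have := hd g; omega)
      (SetLike.mul_mem_graded (hg g) (hg g')) fun y hy => by
        have hy1 : ψ g.1 ∉ y.asHomogeneousIdeal := fun he => hy (by
          rw [map_mul]; exact y.asHomogeneousIdeal.toIdeal.mul_mem_right _ he)
        have hy2 : ψ g'.1 ∉ y.asHomogeneousIdeal := fun he => hy (by
          rw [map_mul]; exact y.asHomogeneousIdeal.toIdeal.mul_mem_left _ he)
        have h2 := (hbval g y hy1).symm.trans (hbval g' y hy2)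
        obtain ⟨c, hc⟩ := LocalizedModule.mk_eq.1 h2
        refine ⟨c.1, c.2, ?_⟩
        rw [map_sub, LinearMap.map_smulₛₗ v (g'.1 ^ K g') (b g), LinearMap.map_smulₛₗ v (g.1 ^ K g) (b g'),
          map_pow, map_pow, smul_sub, sub_eq_zero]
        exact hc
    exact ⟨j, fun p hp hp' => ⟨(g.1 * g'.1) ^ l, notMem_pow (notMem_mul hp hp') l, hlj⟩⟩
  choose j hj using hpair
  let J := Finset.univ.sup fun g : s => Finset.univ.sup (j g)
  let c : s → M := fun g => r ^ J • b g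
  have hc : ∀ g, c g ∈ ℳ (i g) := fun g => by
    simpa using (SetLike.GradedSMul.smul_mem (hr J) (hb g) : r ^ J • b g ∈ ℳ (0 + i g))
  have hagree : ∀ (g g' : s) (p : ProjectiveSpectrum 𝒜) (hp : g.1 ∉ p.asHomogeneousIdeal)
      (hp' : g'.1 ∉ p.asHomogeneousIdeal),
      (LocalizedModule.mk (c g) ⟨g.1 ^ K g, notMem_pow hp (K g)⟩ : GrMod.LocMod 𝒜 (M := M) p) =
        LocalizedModule.mk (c g') ⟨g'.1 ^ K g', notMem_pow hp' (K g')⟩ := by
    intro g g' p hp hp'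
    obtain ⟨e, he, hez⟩ := hj g g' p hp hp'
    have hle : j g g' ≤ J := (Finset.le_sup (f := j g) (Finset.mem_univ g')).trans
      (Finset.le_sup (f := fun g : s => Finset.univ.sup (j g)) (Finset.mem_univ g))
    rw [LocalizedModule.mk_eq]
    refine ⟨⟨e, he⟩, ?_⟩
    simp only [Submonoid.smul_def, c]
    have h3 : e • r ^ J • (g'.1 ^ K g' • b g - g.1 ^ K g • b g') = 0 := by
      rw [← Nat.sub_add_cancel hle, pow_add, mul_smul, smul_comm, hez, smul_zero]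
    rw [← sub_eq_zero, ← smul_sub, smul_comm (g'.1 ^ K g'), smul_comm (g.1 ^ K g), ← smul_sub]
    exact h3
  choose gp hgp hgp' using fun p : ProjectiveSpectrum 𝒜 => hs.2 p
  have hf : ∀ p : ProjectiveSpectrum 𝒜, (LocalizedModule.mk (c ⟨gp p, hgp p⟩)
      ⟨gp p ^ K ⟨gp p, hgp p⟩, notMem_pow (hgp' p) _⟩ : GrMod.LocMod 𝒜 (M := M) p) ∈ GrMod.tildeAt 𝒜 ℳ (n : ℤ) p :=
    fun p => Submodule.subset_span ⟨i ⟨gp p, hgp p⟩, K ⟨gp p, hgp p⟩ * d ⟨gp p, hgp p⟩, ⟨_, hc _⟩,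
        ⟨_, by simpa using SetLike.pow_mem_graded (K ⟨gp p, hgp p⟩) (hg ⟨gp p, hgp p⟩)⟩,
        notMem_pow (hgp' p) _, hdeg _, rfl⟩
  refine ⟨J + k₀, ⟨fun p => ⟨_, hf p.1⟩, fun p => ?_⟩, fun y => ?_⟩
  · let g : s := ⟨gp p.1, hgp p.1⟩
    refine ⟨ProjectiveSpectrum.basicOpen 𝒜 g.1, (ProjectiveSpectrum.mem_basicOpen 𝒜 _ _).2 (hgp' p.1),
      homOfLE le_top, i g, K g * d g, ⟨c g, hc g⟩,
      ⟨g.1 ^ K g, by simpa using SetLike.pow_mem_graded (K g) (hg g)⟩,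
      fun q => notMem_pow ((ProjectiveSpectrum.mem_basicOpen 𝒜 _ _).1 q.2) _, Or.inl (hdeg g), fun q => ?_⟩
    exact hagree _ g q.1 (hgp' q.1) ((ProjectiveSpectrum.mem_basicOpen 𝒜 _ _).1 q.2)
  · show GrMod.locModMap ψ hψ v y (LocalizedModule.mk (c ⟨gp (ProjectiveSpectrum.comap ψ hψ y), hgp _⟩) _) = _
    rw [GrMod.locModMap_mk, pow_add, mul_smul, hbval ⟨_, hgp (ProjectiveSpectrum.comap ψ hψ y)⟩ y (hgp' (ProjectiveSpectrum.comap ψ hψ y)), smul_mk]
    congr 1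
    · show v (r ^ J • b _) = _
      rw [LinearMap.map_smulₛₗ, map_pow]
      rfl
    · exact Subtype.ext (map_pow ψ _ _)

include hψ hv h in
/-- Bijectivity passes to the localization. -/
theorem bijective_alpha_of_isLoc {s : Finset A} (hs : IsCover 𝒜 s)
    (hA : Function.Bijective (GrMod.alpha 𝒜 ℳ n)) : Function.Bijective (GrMod.alpha ℬ 𝒩 n) := by
  classical
  constructor
  · rw [injective_iff_map_eq_zero]
    intro y hy
    obtain ⟨k, m, hm, hkm⟩ := h.exists_homM hv y.2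
    have hy0 : ∀ z, (LocalizedModule.mk (y : N) 1 : GrMod.LocMod ℬ (M := N) z) = 0 := fun z =>
      congrArg (fun t => GrMod.val t (⟨z, trivial⟩ : (⊤ : (Proj ℬ).Opens))) hy
    obtain ⟨J, hJ⟩ := exists_kill hψ hv h hs (GrMod.globalOf 𝒜 ℳ ⟨m, hm⟩) fun z => by
      rw [ev_globalOf, locModMap_mk_one, ← hkm, ← smul_mk, hy0 z, smul_zero]
    have hmJ : r ^ J • m ∈ ℳ n := by
      simpa using (SetLike.GradedSMul.smul_mem (SetLike.pow_mem_graded J h.mem) hm :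
        r ^ J • m ∈ ℳ (J • 0 + n))
    have h0 : GrMod.alpha 𝒜 ℳ n ⟨r ^ J • m, hmJ⟩ = 0 := by
      refine ev_ext fun p => ?_
      show LocalizedModule.mk (r ^ J • m) 1 = 0
      rw [← smul_mk]
      exact hJ p
    have h1 : r ^ J • m = 0 := congrArg Subtype.val (hA.1 (h0.trans (map_zero _).symm))
    have h2 : ψ r ^ (J + k) • (y : N) = 0 := by
      have := congrArg v h1
      rw [LinearMap.map_smulₛₗ, map_pow, ← hkm, map_zero, smul_smul] at this
      rw [pow_add]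
      exact this
    exact Subtype.ext ((h.isUnit.pow (J + k)).smul_eq_zero.1 h2)
  · intro x
    obtain ⟨K, t, ht⟩ := exists_extend hψ hv h hs x
    obtain ⟨q, rfl⟩ := hA.2 t
    obtain ⟨w, hw⟩ := (h.isUnit.pow K).exists_left_inv
    let w₀ : B := DirectSum.decompose ℬ w 0
    have hw₀ : w₀ * ψ r ^ K = 1 := by
      have h1 : ψ r ^ K ∈ ℬ 0 := by simpa using SetLike.pow_mem_graded K (ψ.map_mem h.mem)
      have := congrArg (fun z => (DirectSum.decompose ℬ z 0 : B)) hw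
      simp only at this
      rw [DirectSum.coe_decompose_mul_of_right_mem_zero ℬ h1, DirectSum.decompose_of_mem_same ℬ
        (SetLike.one_mem_graded ℬ)] at this
      exact this
    have hmem : w₀ • v q ∈ 𝒩 n := by
      simpa using (SetLike.GradedSMul.smul_mem (SetLike.coe_mem (DirectSum.decompose ℬ w 0)) (hv n _ q.2) :
        w₀ • v q ∈ 𝒩 (0 + n))
    refine ⟨⟨w₀ • v q, hmem⟩, ev_ext fun y => ?_⟩
    show LocalizedModule.mk (w₀ • v q) 1 = _
    have h2 : GrMod.locModMap ψ hψ v y (LocalizedModule.mk (q : M) 1) = ψ r ^ K • ev x y := ht y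
    rw [locModMap_mk_one] at h2
    rw [← smul_mk, h2, smul_smul, hw₀, one_smul]

/-- Multiplication of a section by an element of degree zero. -/
def scaleSec {a : A} (ha : a ∈ 𝒜 0) (x : GrMod.sect 𝒜 ℳ (n : ℤ) (op ⊤)) : GrMod.sect 𝒜 ℳ (n : ℤ) (op ⊤) :=
  ⟨fun p => ⟨((Groth.L18.AlphaEv.mulSec a ha x).1 p).1, ((Groth.L18.AlphaEv.mulSec a ha x).1 p).2⟩,
    fun p => (Groth.L18.AlphaEv.mulSec a ha x).2 p⟩

theorem ev_scaleSec {a : A} (ha : a ∈ 𝒜 0) (x : GrMod.sect 𝒜 ℳ (n : ℤ) (op ⊤)) (p : ProjectiveSpectrum 𝒜) :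
    ev (scaleSec ha x) p = a • ev x p :=
  Groth.L18.AlphaEv.mulSec_val a ha x ⟨p, trivial⟩

include hψ hv h in
/-- An element with zero image dies after localization when the localized map is injective. -/
theorem exists_pow_smul_eq_zero_of_alpha (hB : Function.Injective (GrMod.alpha ℬ 𝒩 n)) {m : M} (hm : m ∈ ℳ n)
    (hα : GrMod.alpha 𝒜 ℳ n ⟨m, hm⟩ = 0) : ∃ k : ℕ, r ^ k • m = 0 := by
  refine h.kerM m (congrArg Subtype.val (hB (a₁ := ⟨v m, hv n m hm⟩) (a₂ := 0) ?_))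
  rw [map_zero]
  refine ev_ext fun y => ?_
  show LocalizedModule.mk (v m) 1 = 0
  have h0 : (LocalizedModule.mk m 1 : GrMod.LocMod 𝒜 (M := M) (ProjectiveSpectrum.comap ψ hψ y)) = 0 :=
    congrArg (fun t => GrMod.val t (⟨ProjectiveSpectrum.comap ψ hψ y, trivial⟩ : (⊤ : (Proj 𝒜).Opens))) hα
  exact ((locModMap_mk_one v hψ y m).symm.trans ((congrArg _ h0).trans (map_zero _)))

include hψ hv h in
/-- A section times a power of `r` comes from `M` when the localized map is surjective. -/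
theorem exists_pow_smul_eq_alpha {s : Finset A} (hs : IsCover 𝒜 s)
    (hB : Function.Surjective (GrMod.alpha ℬ 𝒩 n)) (x : GrMod.sect 𝒜 ℳ (n : ℤ) (op ⊤)) :
    ∃ (K : ℕ) (m : M), m ∈ ℳ n ∧ ∀ p, r ^ K • ev x p = LocalizedModule.mk m 1 := by
  classical
  obtain ⟨q, hq⟩ := hB (GrMod.comapApp ψ hψ v hv (n : ℤ) ⊤ ⊤ (fun _ _ => trivial) x)
  have hq' : ∀ y : ProjectiveSpectrum ℬ, LocalizedModule.mk (q : N) 1 =
      GrMod.locModMap ψ hψ v y (ev x (ProjectiveSpectrum.comap ψ hψ y)) := fun y =>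
    congrArg (fun t => GrMod.val t (⟨y, trivial⟩ : (⊤ : (Proj ℬ).Opens))) hq
  obtain ⟨k, m, hm, hkm⟩ := h.exists_homM hv q.2
  have hr : ∀ j : ℕ, r ^ j ∈ 𝒜 0 := fun j => by simpa using SetLike.pow_mem_graded j h.mem
  obtain ⟨J, hJ⟩ := exists_kill hψ hv h hs (GrMod.globalOf 𝒜 ℳ ⟨m, hm⟩ - scaleSec (hr k) x) fun y => by
    show GrMod.locModMap ψ hψ v y (LocalizedModule.mk m 1 - ev (scaleSec (hr k) x) _) = 0
    rw [map_sub, ev_scaleSec, locModMap_smul, locModMap_mk_one, map_pow, ← hkm, ← smul_mk, hq' y, sub_self]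
  refine ⟨J + k, r ^ J • m, by simpa using (SetLike.GradedSMul.smul_mem (hr J) hm : r ^ J • m ∈ ℳ (0 + n)),
    fun p => ?_⟩
  have h1 : r ^ J • (LocalizedModule.mk m 1 - ev (scaleSec (hr k) x) p) = 0 := hJ p
  rw [smul_sub, sub_eq_zero, ev_scaleSec, smul_mk, smul_smul, ← pow_add] at h1
  exact h1.symm

end Groth.L06.AlphaLoc
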