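import Groth.Agent.L06.AlphaLoc.Alg
import Groth.Agent.L18.RelTilde.Inst
import Groth.Agent.L18.GrMod.AlphaEventually
import Mathlib.AlgebraicGeometry.Noetherian

/-!
# `α_n` is bijective uniformly over a Noetherian base
-/

set_option autoImplicit false
set_option linter.style.haveILetI false

noncomputable section

universe u

open CategoryTheory AlgebraicGeometry TopologicalSpace Opposite
open scoped HomogeneousIdeal

namespace Groth.L06.AlphaLoc

open Groth.L18 Groth.L18.RelTilde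

variable {S : Scheme.{u}} {𝒮 : RelProj.QCGrAlg S}

theorem isNoetherianRing_obj [IsLocallyNoetherian S]
    (hft : ∀ (U : S.Opens) (hU : IsAffineOpen U), (𝒮.str.app (op U)).hom.FiniteType)
    (U : S.Opens) (hU : IsAffineOpen U) : IsNoetherianRing (𝒮.presheaf.obj (op U)) := by
  haveI : IsNoetherianRing Γ(S, U) := IsLocallyNoetherian.component_noetherian ⟨U, hU⟩
  letI : Algebra Γ(S, U) (𝒮.presheaf.obj (op U)) := (𝒮.str.app (op U)).hom.toAlgebra
  haveI : Algebra.FiniteType Γ(S, U) (𝒮.presheaf.obj (op U)) := hft U hU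
  exact Algebra.FiniteType.isNoetherianRing Γ(S, U) _

variable (D : Data 𝒮)

/-- `α_n` is bijective over an affine open. -/
def Good (n : ℕ) (U : S.Opens) (hU : IsAffineOpen U) : Prop :=
  Function.Bijective (GrMod.alpha (𝒮.deg U hU) (D.deg U hU) n)

variable [IsLocallyNoetherian S]
  (hft : ∀ (U : S.Opens) (hU : IsAffineOpen U), (𝒮.str.app (op U)).hom.FiniteType)

include hft in
theorem good_basicOpen (n : ℕ) (U : S.Opens) (hU : IsAffineOpen U) (f : Γ(S, U)) (h : Good D n U hU) :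
    Good D n (S.basicOpen f) (hU.basicOpen f) := by
  haveI := isNoetherianRing_obj hft U hU
  obtain ⟨s, hs⟩ := exists_isCover (𝒜 := 𝒮.deg U hU)
  exact bijective_alpha_of_isLoc (𝒮.irrelevant_le_map U hU f) (D.res_mem hU (hU.basicOpen f) (S.basicOpen_le f))
    (D.loc U hU f) hs h

include hft in
theorem good_cover (n : ℕ) (U : S.Opens) (hU : IsAffineOpen U) (F : Finset Γ(S, U)) (hF : Ideal.span (F : Set Γ(S, U)) = ⊤)
    (h : ∀ f : F, Good D n (S.basicOpen f.1) (hU.basicOpen f.1)) : Good D n U hU := by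
  classical
  haveI := isNoetherianRing_obj hft U hU
  obtain ⟨s, hs⟩ := exists_isCover (𝒜 := 𝒮.deg U hU)
  let c := (𝒮.str.app (op U)).hom
  have hone : ∀ K : F → ℕ, ∃ g : F → Γ(S, U), ∑ f, c (g f) * c f.1 ^ K f = 1 := by
    intro K
    have htop : Ideal.span ((fun f : Γ(S, U) => f ^ (Finset.univ.sup K)) '' (F : Set Γ(S, U))) = ⊤ :=
      Ideal.span_pow_eq_top _ hF _
    have htop' : Ideal.span (Set.range fun f : F => f.1 ^ K f) = ⊤ := by
      rw [eq_top_iff, ← htop, Ideal.span_le]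
      rintro _ ⟨f, hf, rfl⟩
      show f ^ Finset.univ.sup K ∈ _
      rw [← Nat.sub_add_cancel (Finset.le_sup (f := K) (Finset.mem_univ ⟨f, hf⟩)), pow_add]
      exact Ideal.mul_mem_left _ _ (Ideal.subset_span ⟨⟨f, hf⟩, rfl⟩)
    obtain ⟨g, hg⟩ := Ideal.mem_span_range_iff_exists_fun.1 ((Ideal.eq_top_iff_one _).1 htop')
    exact ⟨g, by simpa [c, map_sum, map_mul, map_pow] using congrArg c hg⟩
  have hc : ∀ r, c r ∈ 𝒮.deg U hU 0 := 𝒮.str_mem U hU
  refine ⟨?_, fun x => ?_⟩
  · rw [injective_iff_map_eq_zero]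
    intro m hm
    choose k hk using fun f : F => exists_pow_smul_eq_zero_of_alpha (𝒮.irrelevant_le_map U hU f.1)
      (D.res_mem hU (hU.basicOpen f.1) (S.basicOpen_le f.1)) (D.loc U hU f.1) (h f).1 m.2 hm
    obtain ⟨g, hg⟩ := hone k
    refine Subtype.ext ?_
    show (m : D.M U hU) = 0
    rw [← one_smul (𝒮.presheaf.obj (op U)) (m : D.M U hU), ← hg, Finset.sum_smul]
    exact Finset.sum_eq_zero fun f _ => by rw [mul_smul, hk f, smul_zero]
  · choose K m hm hK using fun f : F => exists_pow_smul_eq_alpha (𝒮.irrelevant_le_map U hU f.1)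
      (D.res_mem hU (hU.basicOpen f.1) (S.basicOpen_le f.1)) (D.loc U hU f.1) hs (h f).2 x
    obtain ⟨g, hg⟩ := hone K
    have hmem : ∑ f, c (g f) • m f ∈ D.deg U hU n := sum_mem fun f _ => by
      simpa using (SetLike.GradedSMul.smul_mem (hc (g f)) (hm f) : c (g f) • m f ∈ D.deg U hU (0 + n))
    refine ⟨⟨_, hmem⟩, ev_ext fun p => ?_⟩
    show LocalizedModule.mk (∑ f, c (g f) • m f) 1 = ev x p
    rw [← LocalizedModule.mkLinearMap_apply, map_sum]
    conv_rhs => rw [← one_smul (𝒮.presheaf.obj (op U)) (ev x p), ← hg, Finset.sum_smul]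
    exact Finset.sum_congr rfl fun f _ => by
      rw [map_smul, LocalizedModule.mkLinearMap_apply, mul_smul, hK f p]

include hft in
/-- A bound valid over every affine open, given bounds over each. -/
theorem exists_uniform_bound [CompactSpace S]
    (hTF : ∀ (U : S.Opens) (hU : IsAffineOpen U), ∃ k : ℕ,
      (Submodule.span (𝒮.presheaf.obj (op U)) (⋃ i ∈ Set.Ici k, (D.deg U hU i : Set (D.M U hU)))).FG) :
    ∃ N : ℕ, ∀ n, N ≤ n → ∀ (U : S.Opens) (hU : IsAffineOpen U), Good D n U hU := by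
  classical
  obtain ⟨C, hC⟩ := isCompact_univ.elim_finite_subcover (fun U : S.affineOpens => (U.1 : Set S))
    (fun U => U.1.2) (fun y _ => by
      obtain ⟨_, ⟨U, hU, rfl⟩, hyU, -⟩ :=
        S.isBasis_affineOpens.exists_subset_of_mem_open (Set.mem_univ y) isOpen_univ
      exact Set.mem_iUnion.2 ⟨⟨U, hU⟩, hyU⟩)
  have hb : ∀ U : S.affineOpens, ∃ N, ∀ n, N ≤ n → Good D n U.1 U.2 := fun U => by
    have hU : IsAffineOpen U.1 := U.2
    haveI := isNoetherianRing_obj hft U.1 hU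
    exact AlphaEv.exists_bijective (𝒮.deg U.1 hU) (D.deg U.1 hU) (hTF U.1 hU)
  choose N hN using hb
  refine ⟨C.sup N, fun n hn U hU => ?_⟩
  refine of_affine_open_cover (P := fun V : S.affineOpens => Good D n V.1 V.2) (fun k : C => k.1) ?_ ⟨U, hU⟩
    (fun V f h => good_basicOpen D hft n V.1 V.2 f h) (fun V F hF h => good_cover D hft n V.1 V.2 F hF h)
    fun k => hN k.1 n ((Finset.le_sup k.2).trans hn)
  ext y
  simp only [Opens.coe_iSup, Set.mem_iUnion, Opens.coe_top, Set.mem_univ, iff_true]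
  obtain ⟨V, hV, hyV⟩ := Set.mem_iUnion₂.1 (hC (Set.mem_univ y))
  exact ⟨⟨V, hV⟩, hyV⟩

end Groth.L06.AlphaLoc
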